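import Mathlib
import Cfsg.Agent.Lib.PGroup.CyclicMax2

/-!
Odd automorphisms of 2-groups with a unique involution.
-/

set_option autoImplicit false
set_option linter.unusedSectionVars false
set_option linter.style.haveILetI false

namespace Cfsg.Agent.Lib.ExtraAut.Basic

open Cfsg.Agent.Lib.PGroup.CyclicMax2 Cfsg.Agent.Lib.PGroup.CyclicMax

variable {C : Type*} [Group C]

/-- Restriction of an automorphism to an invariant subgroup. -/
noncomputable def restr (γ : MulAut C) (A : Subgroup C) (h : ∀ x, x ∈ A ↔ γ x ∈ A) : MulAut A where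
  toFun x := ⟨γ x, (h x).1 x.2⟩
  invFun x := ⟨γ.symm x, (h _).2 (by simpa using x.2)⟩
  left_inv x := Subtype.ext (by simp)
  right_inv x := Subtype.ext (by simp)
  map_mul' a b := Subtype.ext (by simp)

theorem restr_coe (γ : MulAut C) (A : Subgroup C) (h : ∀ x, x ∈ A ↔ γ x ∈ A) (x : A) :
    ((restr γ A h x : A) : C) = γ x := rfl

theorem restr_pow (γ : MulAut C) (A : Subgroup C) (h : ∀ x, x ∈ A ↔ γ x ∈ A) (m : ℕ) (x : A) :
    ((((restr γ A h) ^ m) x : A) : C) = (γ ^ m) x := by
  induction m with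
  | zero => simp
  | succ n ih =>
    rw [pow_succ', pow_succ', MulAut.mul_apply, MulAut.mul_apply, restr_coe, ih]

theorem restr_pow_eq_one {γ : MulAut C} {m : ℕ} (hγ : γ ^ m = 1) (A : Subgroup C)
    (h : ∀ x, x ∈ A ↔ γ x ∈ A) : (restr γ A h) ^ m = 1 := by
  ext x
  rw [restr_pow, hγ]
  rfl

/-- Invariance from one inclusion, for an automorphism of finite order. -/
theorem inv_iff_of_forward {γ : MulAut C} {m : ℕ} (hγ : γ ^ m = 1) (hm : 0 < m) {A : Subgroup C}
    (h : ∀ x ∈ A, γ x ∈ A) : ∀ x, x ∈ A ↔ γ x ∈ A := by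
  intro x
  refine ⟨h x, fun hx => ?_⟩
  have h1 : ∀ k : ℕ, ∀ y ∈ A, (γ ^ k) y ∈ A := by
    intro k
    induction k with
    | zero => intro y hy; simpa using hy
    | succ n ih =>
      intro y hy
      rw [pow_succ, MulAut.mul_apply]
      exact ih _ (h _ hy)
  have h2 := h1 (m - 1) _ hx
  rw [← MulAut.mul_apply, ← pow_succ, Nat.sub_add_cancel hm, hγ] at h2
  exact h2

/-- The coset trick for a coprime automorphism. -/
theorem fix_of_coset {γ : MulAut C} {m : ℕ} (hγ : γ ^ m = 1) (hm : Odd m) {y : C}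
    (hc : γ (y⁻¹ * γ y) = y⁻¹ * γ y) {k : ℕ} (hc2 : (y⁻¹ * γ y) ^ (2 ^ k) = 1) : γ y = y := by
  set c := y⁻¹ * γ y with hcdef
  have hy : γ y = y * c := by rw [hcdef]; group
  have h1 : ∀ i : ℕ, (γ ^ i) y = y * c ^ i := by
    intro i
    induction i with
    | zero => simp
    | succ n ih =>
      rw [pow_succ', MulAut.mul_apply, ih, map_mul, map_pow, hc, hy, pow_succ', mul_assoc]
  have h2 := h1 m
  rw [hγ] at h2
  have h3 : c ^ m = 1 := by
    have : y = y * c ^ m := h2
    exact mul_left_cancel (a := y) (by rw [mul_one]; exact this.symm)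
  have hcop : Nat.Coprime m (2 ^ k) := (Nat.coprime_two_right.mpr hm).pow_right k
  have h4 : orderOf c = 1 :=
    Nat.Coprime.eq_one_of_dvd (Nat.Coprime.coprime_dvd_left (orderOf_dvd_of_pow_eq_one h3) hcop)
      (orderOf_dvd_of_pow_eq_one hc2)
  have h5 : c = 1 := orderOf_eq_one_iff.mp h4
  rw [hy, h5, mul_one]

/-- An automorphism of odd order of a cyclic 2-group is trivial. -/
theorem aut_cyclic_trivial [Finite C] [IsCyclic C] (hC : IsPGroup 2 C) {γ : MulAut C} {m : ℕ}
    (hγ : γ ^ m = 1) (hm : Odd m) : γ = 1 := by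
  obtain ⟨k, hk⟩ := IsPGroup.iff_card.1 hC
  have h1 : orderOf γ ∣ m := orderOf_dvd_of_pow_eq_one hγ
  have h2 : orderOf γ ∣ Nat.card (MulAut C) := orderOf_dvd_natCard γ
  rw [IsCyclic.card_mulAut, hk] at h2
  have h3 : ∃ j, Nat.totient (2 ^ k) = 2 ^ j := by
    rcases Nat.eq_zero_or_pos k with rfl | hk0
    · exact ⟨0, by simp⟩
    · refine ⟨k - 1, ?_⟩
      rw [Nat.totient_prime_pow Nat.prime_two hk0]
      simp
  obtain ⟨j, hj⟩ := h3
  rw [hj] at h2
  have hcop : Nat.Coprime m (2 ^ j) := (Nat.coprime_two_right.mpr hm).pow_right j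
  have h4 : orderOf γ = 1 :=
    Nat.Coprime.eq_one_of_dvd (Nat.Coprime.coprime_dvd_left h1 hcop) h2
  exact orderOf_eq_one_iff.mp h4

/-- The key dichotomy: a nontrivial odd automorphism of a 2-group with a unique involution forces
order 8 and the quaternion shape. -/
theorem eight_of_nontrivial [Finite C] (hC : IsPGroup 2 C) (hu : UniqueP 2 C) {γ : MulAut C} {m : ℕ}
    (hγ : γ ^ m = 1) (hm : Odd m) (hne : γ ≠ 1) :
    Nat.card C = 8 ∧ ∃ z : C, z ≠ 1 ∧ z ^ 2 = 1 ∧ ∀ x, x ≠ 1 → x ≠ z → x ^ 2 = z := by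
  classical
  rcases cyclic_or_quaternion hC hu with hcy | ⟨-, u, b, n, hS, hn, hcard, hb, hbu, hb2⟩
  · exact absurd (aut_cyclic_trivial hC hγ hm) hne
  have hord : orderOf u = 2 ^ n := hS.hu
  have hU : Nat.card (Subgroup.zpowers u) = 2 ^ n := by rw [Nat.card_zpowers, hord]
  have hidx : (Subgroup.zpowers u).index = 2 := by
    have h := Subgroup.card_mul_index (Subgroup.zpowers u)
    rw [hU, hcard, pow_succ] at h
    exact Nat.eq_of_mul_eq_mul_left (by positivity) h
  have hmem2 : ∀ x y : C, x ∉ Subgroup.zpowers u → y ∉ Subgroup.zpowers u →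
      x⁻¹ * y ∈ Subgroup.zpowers u := by
    intro x y hx hy
    rw [Subgroup.mul_mem_iff_of_index_two hidx]
    simp [hx, hy]
  -- squares outside `⟨u⟩`
  have hout : ∀ x, x ∉ Subgroup.zpowers u → x ^ 2 = u ^ (2 ^ (n - 1)) := by
    intro x hx
    obtain ⟨j, hj⟩ := Subgroup.mem_zpowers_iff.mp (hmem2 b x hb hx)
    have hxe : x = b * u ^ j := by rw [hj]; group
    have h1 : b * u ^ j * b⁻¹ = u⁻¹ ^ j := by
      rw [← hbu]
      exact (conj_zpow).symm
    have hbi : b⁻¹ * b = 1 := by group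
    have h2 : x ^ 2 = (b * u ^ j * b⁻¹) * b ^ 2 * u ^ j := by
      rw [hxe, pow_two, pow_two]; group
    rw [h2, h1, hb2, inv_zpow]
    have h3 : (u ^ j)⁻¹ * u ^ (2 ^ (n - 1)) * u ^ j = u ^ (2 ^ (n - 1)) := by
      have : Commute (u ^ j) (u ^ (2 ^ (n - 1))) := by
        apply Commute.zpow_left
        exact Commute.pow_right (Commute.refl u) _
      rw [mul_assoc, this.symm.eq]
      group
    exact h3
  by_cases hn2 : n = 2
  · subst hn2
    refine ⟨by simpa using hcard, u ^ 2, ?_, ?_, ?_⟩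
    · intro h
      have := orderOf_dvd_of_pow_eq_one h
      rw [hord] at this
      norm_num at this
    · rw [← pow_mul]
      have : orderOf u = 4 := by simpa using hord
      rw [show 2 * 2 = orderOf u from this.symm]
      exact pow_orderOf_eq_one u
    · intro x hx1 hxz
      by_cases hxU : x ∈ Subgroup.zpowers u
      · have hu4 : u ^ 4 = 1 := by
          have : orderOf u = 4 := by simpa using hord
          rw [← this]; exact pow_orderOf_eq_one u
        obtain ⟨j, hj, rfl⟩ : ∃ j, j < 4 ∧ x = u ^ j := by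
          obtain ⟨j, hj⟩ := (mem_powers_iff_mem_zpowers).2 hxU
          have hj' : u ^ j = x := hj
          refine ⟨j % 4, Nat.mod_lt _ (by norm_num), ?_⟩
          conv_lhs => rw [← hj', ← Nat.div_add_mod j 4, pow_add, pow_mul, hu4, one_pow, one_mul]
        interval_cases j
        · simp at hx1
        · simp
        · exact absurd rfl hxz
        · rw [← pow_mul, show 3 * 2 = 4 + 2 by norm_num, pow_add, hu4, one_mul]
      · exact hout x hxU
  · exfalso
    have hn3 : 3 ≤ n := by omega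
    apply hne
    have hm0 : 0 < m := hm.pos
    -- `γ u` lies in `⟨u⟩`
    have hγu : γ u ∈ Subgroup.zpowers u := by
      by_contra hcon
      have h1 := hout _ hcon
      have h2 : (γ (u ^ 4)) = 1 := by
        rw [map_pow, show 4 = 2 * 2 by norm_num, pow_mul, h1, ← pow_mul]
        rw [show 2 ^ (n - 1) * 2 = 2 ^ n by rw [← pow_succ]; congr 1; omega, ← hord]
        exact pow_orderOf_eq_one u
      have h3 : u ^ 4 = 1 := by
        have := (map_eq_one_iff γ γ.injective).mp h2
        exact this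
      have h4 := orderOf_dvd_of_pow_eq_one h3
      rw [hord] at h4
      have h5 : 2 ^ n ≤ 4 := Nat.le_of_dvd (by norm_num) h4
      have h6 : 2 ^ 3 ≤ 2 ^ n := Nat.pow_le_pow_right (by norm_num) hn3
      omega
    have hinv : ∀ x, x ∈ Subgroup.zpowers u ↔ γ x ∈ Subgroup.zpowers u := by
      apply inv_iff_of_forward hγ hm0
      intro x hx
      obtain ⟨j, rfl⟩ := Subgroup.mem_zpowers_iff.mp hx
      rw [map_zpow]
      exact Subgroup.zpow_mem _ hγu _
    have hr := aut_cyclic_trivial (C := Subgroup.zpowers u) (hC.to_subgroup _)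
      (restr_pow_eq_one hγ _ hinv) hm
    have hfixU : ∀ x ∈ Subgroup.zpowers u, γ x = x := by
      intro x hx
      have := congrArg (fun r : MulAut (Subgroup.zpowers u) => ((r ⟨x, hx⟩ : Subgroup.zpowers u) : C)) hr
      simpa [restr_coe] using this
    ext x
    show γ x = x
    by_cases hx : x ∈ Subgroup.zpowers u
    · exact hfixU x hx
    · have hγx : γ x ∉ Subgroup.zpowers u := fun h => hx ((hinv x).2 h)
      have hc := hmem2 x (γ x) hx hγx
      obtain ⟨k, hk⟩ := (IsPGroup.iff_orderOf.1 hC) (x⁻¹ * γ x)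
      refine fix_of_coset hγ hm (hfixU _ hc) (k := k) ?_
      rw [← hk]
      exact pow_orderOf_eq_one _

/-- Rigidity of the quaternion group: an odd automorphism which sends `x` to something commuting
with `x`, for `x` outside the centre, is trivial. -/
theorem q8_rigid {Q : Subgroup C} {z : C} (hQ : Nat.card Q = 8) (hz1 : z ≠ 1) (hz2 : z ^ 2 = 1)
    (hQ8 : ∀ x ∈ Q, x ≠ 1 → x ≠ z → x ^ 2 = z) {γ : MulAut C} {m : ℕ} (hγ : γ ^ m = 1)
    (hm : Odd m) (hinv : ∀ x, x ∈ Q ↔ γ x ∈ Q) {x : C} (hx : x ∈ Q) (hx1 : x ≠ 1) (hxz : x ≠ z)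
    (hcomm : x * γ x = γ x * x) : ∀ y ∈ Q, γ y = y := by
  classical
  have hxsq := hQ8 x hx hx1 hxz
  have hγxQ : γ x ∈ Q := (hinv x).1 hx
  have hγx1 : γ x ≠ 1 := fun h => hx1 ((map_eq_one_iff γ γ.injective).mp h)
  have hγxz : γ x ≠ z := by
    intro h
    have h1 : γ (x ^ 2) = 1 := by rw [map_pow, h, hz2]
    have h2 : x ^ 2 = 1 := (map_eq_one_iff γ γ.injective).mp h1
    rw [hxsq] at h2
    exact hz1 h2
  have hγxsq := hQ8 _ hγxQ hγx1 hγxz
  have hγz : γ z = z := by rw [← hxsq, map_pow, hxsq, hγxsq]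
  have ht : (x * γ x) ^ 2 = 1 := by
    rw [(show Commute x (γ x) from hcomm).mul_pow, hxsq, hγxsq, ← pow_two, hz2]
  have hfx : γ x = x := by
    by_cases h1 : x * γ x = 1
    · have hi : γ x = x⁻¹ := eq_inv_of_mul_eq_one_right h1
      obtain ⟨k, rfl⟩ := hm
      have hii : ∀ i : ℕ, (γ ^ (2 * i)) x = x := by
        intro i
        induction i with
        | zero => simp
        | succ n ih =>
          rw [show 2 * (n + 1) = 2 + 2 * n by ring, pow_add, MulAut.mul_apply, ih, pow_two,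
            MulAut.mul_apply, hi, map_inv, hi, inv_inv]
      have h3 : (γ ^ (2 * k + 1)) x = x := by rw [hγ]; rfl
      rw [pow_succ', MulAut.mul_apply, hii] at h3
      exact h3
    · by_cases h2 : x * γ x = z
      · have : x * γ x = x * x := by rw [h2, ← hxsq, pow_two]
        exact mul_left_cancel this
      · exfalso
        have := hQ8 _ (Q.mul_mem hx hγxQ) h1 h2
        rw [ht] at this
        exact hz1 this.symm
  -- the cyclic subgroup generated by `x`
  let x' : Q := ⟨x, hx⟩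
  have hx4 : x ^ 4 = 1 := by
    rw [show 4 = 2 * 2 by norm_num, pow_mul, hxsq, hz2]
  have hordx : orderOf x = 4 := by
    have : orderOf x = 2 ^ 2 := by
      apply orderOf_eq_prime_pow (p := 2) (n := 1)
      · rw [pow_one, hxsq]; exact hz1
      · simpa using hx4
    simpa using this
  have hordx' : orderOf x' = 4 := by
    rw [← hordx]
    exact Subgroup.orderOf_mk _ _
  have hU : Nat.card (Subgroup.zpowers x') = 4 := by rw [Nat.card_zpowers, hordx']
  have hidx : (Subgroup.zpowers x').index = 2 := by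
    have h := Subgroup.card_mul_index (Subgroup.zpowers x')
    rw [hU, hQ] at h
    omega
  have hfixU : ∀ w : Q, w ∈ Subgroup.zpowers x' → γ (w : C) = w := by
    intro w hw
    obtain ⟨j, rfl⟩ := Subgroup.mem_zpowers_iff.mp hw
    simp [x', hfx]
  intro y hy
  let y' : Q := ⟨y, hy⟩
  let gy' : Q := ⟨γ y, (hinv y).1 hy⟩
  by_cases hyU : y' ∈ Subgroup.zpowers x'
  · exact hfixU y' hyU
  · have hgyU : gy' ∉ Subgroup.zpowers x' := by
      intro h
      obtain ⟨j, hj⟩ := Subgroup.mem_zpowers_iff.mp h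
      apply hyU
      refine Subgroup.mem_zpowers_iff.mpr ⟨j, ?_⟩
      apply Subtype.ext
      apply γ.injective
      have h2 : ((x' ^ j : Q) : C) = γ ((x' ^ j : Q) : C) := (hfixU _ (Subgroup.zpow_mem_zpowers _ _)).symm
      rw [← h2, hj]
    have hc : y'⁻¹ * gy' ∈ Subgroup.zpowers x' := by
      rw [Subgroup.mul_mem_iff_of_index_two hidx]
      simp [hyU, hgyU]
    have hc1 : ((y'⁻¹ * gy' : Q) : C) = y⁻¹ * γ y := rfl
    refine fix_of_coset hγ hm (k := 3) ?_ ?_
    · rw [← hc1]; exact hfixU _ hc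
    · rw [← hc1]
      have : (y'⁻¹ * gy') ^ 8 = 1 := by
        rw [← hQ]; exact pow_card_eq_one'
      have h2 := congrArg (fun w : Q => (w : C)) this
      simpa using h2

end Cfsg.Agent.Lib.ExtraAut.Basic
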