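import Mathlib
import Cfsg.Prelude.Def_Transfer
import Cfsg.Agent.Lib.Coprime.BrauerWielandt
import Cfsg.Agent.Lib.ExtraAut.Basic

/-!
The fixed point subgroups of an `E_{p²}` acting on a 2-group with unique involutions.
-/

set_option autoImplicit false
set_option linter.unusedSectionVars false
set_option linter.style.haveILetI false

namespace Cfsg.Agent.Lib.ExtraAut.Setup

open Cfsg.Agent.Lib.PGroup.CyclicMax2 Cfsg.Agent.Lib.PGroup.CyclicMax
open Cfsg.Agent.Lib.Coprime.BrauerWielandt Cfsg.Agent.Lib.ExtraAut.Basic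

universe u v

section Res

variable {Γ : Type*} [Group Γ] {K : Type*} [Group K]

/-- The restriction of an action to an invariant subgroup. -/
noncomputable def res (ρ : Γ →* MulAut K) (A : Subgroup K) (h : ∀ g x, x ∈ A ↔ ρ g x ∈ A) :
    Γ →* MulAut A :=
  MonoidHom.mk' (fun g => restr (ρ g) A (h g)) (fun a b => by
    ext x
    show ρ (a * b) x = ρ a (ρ b x)
    rw [map_mul, MulAut.mul_apply])

theorem res_coe (ρ : Γ →* MulAut K) (A : Subgroup K) (h : ∀ g x, x ∈ A ↔ ρ g x ∈ A) (g : Γ)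
    (x : A) : ((res ρ A h g x : A) : K) = ρ g x := rfl

theorem card_fix_res (ρ : Γ →* MulAut K) (A : Subgroup K) (h : ∀ g x, x ∈ A ↔ ρ g x ∈ A)
    (D : Subgroup Γ) : Nat.card (fix (res ρ A h) D) = Nat.card (A ⊓ fix ρ D : Subgroup K) := by
  refine Nat.card_congr
    { toFun := fun x => ⟨(x.1 : K), x.1.2, fun d hd => ?_⟩
      invFun := fun x => ⟨⟨x.1, x.2.1⟩, fun d hd => Subtype.ext (x.2.2 d hd)⟩
      left_inv := fun x => rfl
      right_inv := fun x => rfl }
  have := x.2 d hd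
  exact congrArg (fun w : A => (w : K)) this

end Res

section Formula

variable {Γ : Type v} [Group Γ] [Fintype Γ] {p : ℕ} [hp : Fact p.Prime] [Fintype (Lines Γ p)]

/-- The Brauer-Wielandt formula on an invariant subgroup of a 2-group. -/
theorem formula (hcard : Nat.card Γ = p ^ 2) (hexp : ∀ g : Γ, g ^ p = 1)
    (hcomm : ∀ a b : Γ, a * b = b * a) {K : Type u} [Group K] [Finite K] (hK : IsPGroup 2 K)
    (hp2 : p ≠ 2) (ρ : Γ →* MulAut K) (A : Subgroup K) (h : ∀ g x, x ∈ A ↔ ρ g x ∈ A) :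
    Nat.card A * Nat.card (A ⊓ fix ρ ⊤ : Subgroup K) ^ p =
      ∏ B : Lines Γ p, Nat.card (A ⊓ fix ρ B.1 : Subgroup K) := by
  have hA : IsPGroup 2 A := hK.to_subgroup A
  haveI : Group.IsNilpotent A := hA.isNilpotent
  have hcop : (Nat.card A).Coprime p := by
    obtain ⟨k, hk⟩ := IsPGroup.iff_card.1 hA
    rw [hk]
    apply Nat.Coprime.pow_left
    exact (Nat.coprime_primes Nat.prime_two hp.out).mpr (Ne.symm hp2)
  have h1 := card_solvable hcard hexp hcomm (Nat.card A) A (res ρ A h) rfl hcop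
  simp_rw [card_fix_res] at h1
  exact h1

end Formula

section Ctx

variable {W : Type u} [Group W] [Finite W] {Γ : Type v} [Group Γ]

/-- The standing hypotheses. -/
structure Ctx (p : ℕ) (ρ : Γ →* MulAut W) : Prop where
  hW : IsPGroup 2 W
  hp2 : p ≠ 2
  hcard : Nat.card Γ = p ^ 2
  hexp : ∀ g : Γ, g ^ p = 1
  hcomm : ∀ a b : Γ, a * b = b * a
  hinj : Function.Injective ρ
  hfix : ∀ g : Γ, g ≠ 1 → ∀ x y : W, orderOf x = 2 → orderOf y = 2 → ρ g x = x → ρ g y = y → x = y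

variable {p : ℕ} [hp : Fact p.Prime] {ρ : Γ →* MulAut W}

/-- Automorphisms commuting with the action preserve fixed points. -/
theorem fix_inv_of_comm {e : MulAut W} {m : ℕ} (he : e ^ m = 1) (hm : 0 < m)
    (hc : ∀ g : Γ, ρ g * e = e * ρ g) (D : Subgroup Γ) :
    ∀ x, x ∈ fix ρ D ↔ e x ∈ fix ρ D := by
  apply inv_iff_of_forward he hm
  intro x hx d hd
  have h1 := congrArg (fun φ : MulAut W => φ x) (hc d)
  simp only [MulAut.mul_apply] at h1
  rw [h1, hx d hd]

theorem Ctx.odd (C : Ctx p ρ) : Odd p := hp.out.odd_of_ne_two C.hp2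

theorem Ctx.pow (C : Ctx p ρ) (g : Γ) : (ρ g) ^ p = 1 := by
  rw [← map_pow, C.hexp, map_one]

theorem Ctx.comm (C : Ctx p ρ) (g h : Γ) : ρ g * ρ h = ρ h * ρ g := by
  rw [← map_mul, C.hcomm, map_mul]

theorem Ctx.fix_inv (C : Ctx p ρ) (g : Γ) (D : Subgroup Γ) :
    ∀ x, x ∈ fix ρ D ↔ ρ g x ∈ fix ρ D :=
  fix_inv_of_comm (C.pow g) hp.out.pos (fun h => C.comm h g) D

theorem Ctx.fix_inv' (C : Ctx p ρ) (D : Subgroup Γ) :
    ∀ g x, x ∈ fix ρ D ↔ ρ g x ∈ fix ρ D := fun g => C.fix_inv g D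

theorem Ctx.exists_ne_one (B : Lines Γ p) : ∃ g ∈ B.1, g ≠ 1 := by
  have h1 : 1 < Nat.card B.1 := by rw [B.2]; exact hp.out.one_lt
  haveI : Finite B.1 := by
    by_contra hinf
    rw [not_finite_iff_infinite] at hinf
    rw [Nat.card_eq_zero_of_infinite] at h1
    omega
  haveI : Nontrivial B.1 := Finite.one_lt_card_iff_nontrivial.mp h1
  obtain ⟨g, hg⟩ := exists_ne (1 : B.1)
  exact ⟨g, g.2, fun h => hg (Subtype.ext h)⟩

theorem orderOf_two_of {G : Type*} [Group G] {x : G} (h1 : x ≠ 1) (h2 : x ^ 2 = 1) :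
    orderOf x = 2 := orderOf_eq_prime h2 h1

/-- Involutions in the fixed points of a line are unique. -/
theorem Ctx.unique (C : Ctx p ρ) (B : Lines Γ p) : UniqueP 2 (fix ρ B.1) := by
  obtain ⟨g, hg, hg1⟩ := Ctx.exists_ne_one B
  intro y z hy hz hy1 hz1
  have hy1' : (y : W) ≠ 1 := fun h => hy1 (Subtype.ext h)
  have hz1' : (z : W) ≠ 1 := fun h => hz1 (Subtype.ext h)
  have hy2 : (y : W) ^ 2 = 1 := by exact_mod_cast congrArg Subtype.val hy
  have hz2 : (z : W) ^ 2 = 1 := by exact_mod_cast congrArg Subtype.val hz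
  have : (y : W) = z := C.hfix g hg1 _ _ (orderOf_two_of hy1' hy2) (orderOf_two_of hz1' hz2)
    (y.2 g hg) (z.2 g hg)
  have hyz : y = z := Subtype.ext this
  rw [hyz]
  exact Subgroup.mem_zpowers z

/-- The shape of a quaternion subgroup. -/
structure Q8Like (Q : Subgroup W) (z : W) : Prop where
  card : Nat.card Q = 8
  mem : z ∈ Q
  ne : z ≠ 1
  sq : z ^ 2 = 1
  shape : ∀ x ∈ Q, x ≠ 1 → x ≠ z → x ^ 2 = z

/-- The dichotomy for the fixed points of a line. -/
theorem Ctx.dichotomy (C : Ctx p ρ) (B : Lines Γ p) :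
    fix ρ B.1 ≤ fix ρ ⊤ ∨ ∃ z, Q8Like (fix ρ B.1) z := by
  classical
  by_cases h : ∀ g : Γ, ∀ x ∈ fix ρ B.1, ρ g x = x
  · left
    intro x hx d _
    exact h d x hx
  · right
    push Not at h
    obtain ⟨g, x, hx, hgx⟩ := h
    have hinv := C.fix_inv g B.1
    have hne : restr (ρ g) (fix ρ B.1) hinv ≠ 1 := by
      intro h1
      have := congrArg (fun φ : MulAut (fix ρ B.1) => ((φ ⟨x, hx⟩ : fix ρ B.1) : W)) h1
      exact hgx this
    obtain ⟨hc, z, hz1, hz2, hz⟩ := eight_of_nontrivial (C.hW.to_subgroup _) (C.unique B)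
      (restr_pow_eq_one (C.pow g) _ hinv) C.odd hne
    refine ⟨(z : W), hc, z.2, fun h => hz1 (Subtype.ext h), ?_, ?_⟩
    · exact_mod_cast congrArg Subtype.val hz2
    · intro y hy hy1 hyz
      have := hz ⟨y, hy⟩ (fun h => hy1 (congrArg Subtype.val h))
        (fun h => hyz (congrArg Subtype.val h))
      have h2 := congrArg Subtype.val this
      simpa using h2

/-- If all of `W` is fixed then `Γ` is trivial. -/
theorem Ctx.fix_top_ne_top (C : Ctx p ρ) : fix ρ ⊤ ≠ ⊤ := by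
  intro h
  have h1 : ∀ g : Γ, g = 1 := by
    intro g
    apply C.hinj
    rw [map_one]
    ext x
    have hx : x ∈ fix ρ (⊤ : Subgroup Γ) := by rw [h]; trivial
    exact hx g trivial
  have h2 : Nat.card Γ = 1 := by
    haveI : Subsingleton Γ := ⟨fun a b => by rw [h1 a, h1 b]⟩
    exact Nat.card_unique
  rw [C.hcard] at h2
  have h3 : 1 < p ^ 2 := Nat.one_lt_pow (by norm_num) hp.out.one_lt
  omega

/-- A nontrivial line does not act trivially. -/
theorem Ctx.fix_line_ne_top (C : Ctx p ρ) (B : Lines Γ p) : fix ρ B.1 ≠ ⊤ := by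
  intro h
  obtain ⟨g, hg, hg1⟩ := Ctx.exists_ne_one B
  apply hg1
  apply C.hinj
  rw [map_one]
  ext x
  have hx : x ∈ fix ρ B.1 := by rw [h]; trivial
  exact hx g hg

variable [Fintype Γ] [Fintype (Lines Γ p)]

theorem Ctx.prod_const (C : Ctx p ρ) (c : ℕ) : ∏ _B : Lines Γ p, c = c ^ (p + 1) := by
  rw [Finset.prod_const, Finset.card_univ, card_lines C.hcard C.hexp]

/-- An invariant subgroup whose intersection with each fixed point subgroup lies in the common
fixed points lies in the common fixed points. -/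
theorem Ctx.le_fix_top (C : Ctx p ρ) (A : Subgroup W) (hA : ∀ g x, x ∈ A ↔ ρ g x ∈ A)
    (h : ∀ B : Lines Γ p, A ⊓ fix ρ B.1 ≤ fix ρ ⊤) : A ≤ fix ρ ⊤ := by
  have h1 := formula C.hcard C.hexp C.hcomm C.hW C.hp2 ρ A hA
  have h2 : ∀ B : Lines Γ p, A ⊓ fix ρ B.1 = A ⊓ fix ρ ⊤ := by
    intro B
    apply le_antisymm
    · exact le_inf inf_le_left (h B)
    · exact inf_le_inf_left _ (fix_mono ρ le_top)
  simp_rw [h2] at h1
  rw [C.prod_const, pow_succ, mul_comm] at h1
  have h3 : 0 < Nat.card (A ⊓ fix ρ ⊤ : Subgroup W) ^ p := pow_pos Nat.card_pos _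
  have h4 : Nat.card (A ⊓ fix ρ ⊤ : Subgroup W) = Nat.card A := by
    have := Nat.eq_of_mul_eq_mul_left h3 h1
    exact this.symm
  have h5 : A ⊓ fix ρ ⊤ = A := Subgroup.eq_of_le_of_card_ge inf_le_left (by rw [h4])
  exact inf_eq_left.mp h5

/-- Some line has fixed points outside the common fixed points. -/
theorem Ctx.exists_line_not_le (C : Ctx p ρ) : ∃ B : Lines Γ p, ¬ fix ρ B.1 ≤ fix ρ ⊤ := by
  by_contra hcon
  push Not at hcon
  have htop : (⊤ : Subgroup W) ≤ fix ρ ⊤ := by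
    apply C.le_fix_top ⊤ (by simp)
    intro B
    rw [top_inf_eq]
    exact hcon B
  exact C.fix_top_ne_top (top_le_iff.mp htop)

/-- The formula on all of `W`. -/
theorem Ctx.card_W (C : Ctx p ρ) :
    Nat.card W * Nat.card (fix ρ ⊤ : Subgroup W) ^ p =
      ∏ B : Lines Γ p, Nat.card (fix ρ B.1 : Subgroup W) := by
  have h1 := formula C.hcard C.hexp C.hcomm C.hW C.hp2 ρ ⊤ (by simp)
  simp_rw [top_inf_eq] at h1
  rw [Subgroup.card_top] at h1
  exact h1

/-- An invariant subgroup containing all fixed point subgroups is everything. -/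
theorem Ctx.eq_top (C : Ctx p ρ) (A : Subgroup W) (hA : ∀ g x, x ∈ A ↔ ρ g x ∈ A)
    (h : ∀ B : Lines Γ p, fix ρ B.1 ≤ A) (hF : fix ρ ⊤ ≤ A) : A = ⊤ := by
  have h1 := formula C.hcard C.hexp C.hcomm C.hW C.hp2 ρ A hA
  simp_rw [inf_eq_right.mpr (h _)] at h1
  rw [inf_eq_right.mpr hF, ← C.card_W] at h1
  have h3 : 0 < Nat.card (fix ρ ⊤ : Subgroup W) ^ p := pow_pos Nat.card_pos _
  have h4 := Nat.eq_of_mul_eq_mul_right h3 h1
  rw [← Subgroup.card_top (G := W)] at h4
  exact Subgroup.eq_of_le_of_card_ge le_top (by rw [h4])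

end Ctx

end Cfsg.Agent.Lib.ExtraAut.Setup
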