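import Mathlib
import Cfsg.Prelude.Def_Transfer
import Cfsg.Agent.Lib.ExtraAut.Setup
import Cfsg.Agent.Lib.PGroup.ActionFrattini
import Cfsg.Agent.Lib.PGroup.FrattiniBasis

/-!
The structure of `W` from the fixed point data.
-/

set_option autoImplicit false
set_option linter.unusedSectionVars false
set_option linter.style.haveILetI false

namespace Cfsg.Agent.Lib.ExtraAut.Struct

open Cfsg.Agent.Lib.PGroup.CyclicMax2 Cfsg.Agent.Lib.PGroup.CyclicMax
open Cfsg.Agent.Lib.Coprime.BrauerWielandt Cfsg.Agent.Lib.ExtraAut.Basic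
open Cfsg.Agent.Lib.ExtraAut.Setup
open scoped commutatorElement

universe u v

variable {W : Type u} [Group W] [Finite W] {Γ : Type v} [Group Γ]
  {p : ℕ} [hp : Fact p.Prime] {ρ : Γ →* MulAut W}

/-- The data of the central involution. -/
structure Data (p : ℕ) (ρ : Γ →* MulAut W) (z : W) : Prop where
  ne : z ≠ 1
  sq : z ^ 2 = 1
  memF : ∀ x, x ∈ fix ρ ⊤ ↔ x = 1 ∨ x = z
  dich : ∀ B : Lines Γ p, fix ρ B.1 ≤ fix ρ ⊤ ∨ Q8Like (fix ρ B.1) z

theorem card_two_of {F : Subgroup W} {z : W} (hz : z ≠ 1) (h : ∀ x, x ∈ F ↔ x = 1 ∨ x = z) :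
    Nat.card F = 2 := by
  rw [Nat.card_eq_two_iff]
  refine ⟨1, ⟨z, (h z).2 (Or.inr rfl)⟩, fun h1 => hz (congrArg Subtype.val h1).symm, ?_⟩
  ext ⟨x, hx⟩
  simp only [Set.mem_insert_iff, Set.mem_singleton_iff, Set.mem_univ, iff_true]
  rcases (h x).1 hx with rfl | rfl
  · left; rfl
  · right; rfl

/-- From the action on a quaternion fixed point subgroup: the data. -/
theorem Ctx.exists_data [Fintype Γ] [Fintype (Lines Γ p)] (C : Ctx p ρ) :
    p = 3 ∧ ∃ z, Data p ρ z ∧ ∃ B₀ : Lines Γ p, Q8Like (fix ρ B₀.1) z ∧ ¬ fix ρ B₀.1 ≤ fix ρ ⊤ := by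
  classical
  obtain ⟨B₀, hB₀⟩ := C.exists_line_not_le
  rcases C.dichotomy B₀ with h | ⟨z, hz⟩
  · exact absurd h hB₀
  obtain ⟨x₀, hx₀, hx₀F⟩ := Set.not_subset.mp hB₀
  have hex : ∃ g₀ : Γ, ρ g₀ x₀ ≠ x₀ := by
    by_contra hcon
    push Not at hcon
    exact hx₀F (fun d _ => hcon d)
  obtain ⟨g₀, hg₀⟩ := hex
  have hzfix : ∀ g : Γ, ρ g z = z := by
    intro g
    by_contra hne
    have h1 := hz.shape _ ((C.fix_inv g B₀.1 z).1 hz.mem)
      (fun h => hz.ne ((map_eq_one_iff (ρ g) (ρ g).injective).mp h)) hne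
    rw [← map_pow, hz.sq, map_one] at h1
    exact hz.ne h1.symm
  have hFle : ∀ B : Lines Γ p, fix ρ ⊤ ≤ fix ρ B.1 := fun B => fix_mono ρ le_top
  have hmemF : ∀ x, x ∈ fix ρ ⊤ ↔ x = 1 ∨ x = z := by
    intro x
    constructor
    · intro hx
      by_contra hcon
      push Not at hcon
      have h1 : ρ g₀ x = x := hx g₀ trivial
      apply hg₀
      refine q8_rigid hz.card hz.ne hz.sq hz.shape (C.pow g₀) C.odd (C.fix_inv g₀ B₀.1)
        (hFle B₀ hx) hcon.1 hcon.2 ?_ x₀ hx₀
      rw [h1]
    · rintro (rfl | rfl)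
      · exact Subgroup.one_mem _
      · exact fun d _ => hzfix d
  have hF2 : Nat.card (fix ρ (⊤ : Subgroup Γ)) = 2 := card_two_of hz.ne hmemF
  refine ⟨?_, z, ⟨hz.ne, hz.sq, hmemF, ?_⟩, B₀, hz, hB₀⟩
  · -- `p = 3` from the congruence
    letI act : MulAction Γ (fix ρ B₀.1) :=
      MulAction.compHom _ (res ρ _ (C.fix_inv' B₀.1))
    have hΓp : IsPGroup p Γ := IsPGroup.of_card C.hcard
    have h := hΓp.card_modEq_card_fixedPoints (fix ρ B₀.1)
    have h2 : Nat.card (MulAction.fixedPoints Γ (fix ρ B₀.1)) =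
        Nat.card (fix (res ρ _ (C.fix_inv' B₀.1)) (⊤ : Subgroup Γ)) := by
      apply Nat.card_congr
      exact Equiv.subtypeEquivRight (fun x => ⟨fun hx d _ => hx d, fun hx d => hx d trivial⟩)
    rw [h2, card_fix_res, inf_eq_right.mpr (hFle B₀), hF2, hz.card] at h
    have h3 : p ∣ 8 - 2 := (Nat.modEq_iff_dvd' (by norm_num)).mp h.symm
    have h4 : p ∣ 2 * 3 := by simpa using h3
    rcases (Nat.Prime.dvd_mul hp.out).mp h4 with h5 | h5
    · exact absurd ((Nat.prime_dvd_prime_iff_eq hp.out Nat.prime_two).mp h5) C.hp2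
    · exact (Nat.prime_dvd_prime_iff_eq hp.out Nat.prime_three).mp h5
  · intro B
    rcases C.dichotomy B with h | ⟨z', hz'⟩
    · exact Or.inl h
    · right
      have hzB : z ∈ fix ρ B.1 := hFle B ((hmemF z).2 (Or.inr rfl))
      have : z = z' := by
        by_contra hne
        have h1 := hz'.shape z hzB hz.ne hne
        rw [hz.sq] at h1
        exact hz'.ne h1.symm
      rw [this]
      exact hz'

variable {z : W}

theorem Data.fixz (D : Data p ρ z) (g : Γ) : ρ g z = z :=
  ((D.memF z).2 (Or.inr rfl)) g trivial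

theorem Data.z_mem (D : Data p ρ z) : z ∈ fix ρ ⊤ := (D.memF z).2 (Or.inr rfl)

theorem Data.sq_mem (D : Data p ρ z) (B : Lines Γ p) {x : W} (hx : x ∈ fix ρ B.1) :
    x ^ 2 ∈ fix ρ ⊤ := by
  rcases D.dich B with h | h
  · exact Subgroup.pow_mem _ (h hx) 2
  · by_cases h1 : x = 1
    · rw [h1, one_pow]; exact Subgroup.one_mem _
    · by_cases h2 : x = z
      · rw [h2, D.sq]; exact Subgroup.one_mem _
      · rw [h.shape x hx h1 h2]; exact D.z_mem

/-- Invariance of characteristic subgroups. -/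
theorem char_inv (H : Subgroup W) [hH : H.Characteristic] (C : Ctx p ρ) :
    ∀ g x, x ∈ H ↔ ρ g x ∈ H := by
  intro g
  apply inv_iff_of_forward (C.pow g) hp.out.pos
  intro x hx
  exact (Subgroup.characteristic_iff_le_comap.mp hH (ρ g)) hx

section
variable [Fintype Γ] [Fintype (Lines Γ p)]

/-- `z` is central. -/
theorem Data.central (C : Ctx p ρ) (D : Data p ρ z) : z ∈ Subgroup.center W := by
  classical
  have h1 : Subgroup.centralizer ({z} : Set W) = ⊤ := by
    apply C.eq_top
    · intro g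
      apply inv_iff_of_forward (C.pow g) hp.out.pos
      intro x hx
      rw [Subgroup.mem_centralizer_singleton_iff] at hx ⊢
      rw [← D.fixz g, ← map_mul, hx, map_mul, D.fixz g]
    · intro B x hx
      rw [Subgroup.mem_centralizer_singleton_iff]
      rcases D.dich B with h | h
      · rcases (D.memF x).1 (h hx) with rfl | rfl
        · simp
        · rfl
      · have hy : x * z * x⁻¹ ∈ fix ρ B.1 :=
          Subgroup.mul_mem _ (Subgroup.mul_mem _ hx h.mem) (Subgroup.inv_mem _ hx)
        have hy1 : x * z * x⁻¹ ≠ 1 := by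
          intro h2
          apply D.ne
          have : x * z = x := by
            have h3 := congrArg (· * x) h2
            simpa using h3
          simpa using this
        have hy2 : (x * z * x⁻¹) ^ 2 = 1 := by
          rw [conj_pow, D.sq]; simp
        by_cases hyz : x * z * x⁻¹ = z
        · have h3 := congrArg (· * x) hyz
          simpa using h3
        · have := h.shape _ hy hy1 hyz
          rw [hy2] at this
          exact absurd this.symm D.ne
    · intro x hx
      rw [Subgroup.mem_centralizer_singleton_iff]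
      rcases (D.memF x).1 hx with rfl | rfl
      · simp
      · rfl
  rw [Subgroup.mem_center_iff]
  intro g
  have : g ∈ Subgroup.centralizer ({z} : Set W) := by rw [h1]; trivial
  rw [Subgroup.mem_centralizer_singleton_iff] at this
  exact this

theorem Data.F_le_center (C : Ctx p ρ) (D : Data p ρ z) : fix ρ ⊤ ≤ Subgroup.center W := by
  intro x hx
  rcases (D.memF x).1 hx with rfl | rfl
  · exact Subgroup.one_mem _
  · exact D.central C

/-- An invariant abelian subgroup lies in the common fixed points. -/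
theorem Data.le_of_comm (C : Ctx p ρ) (D : Data p ρ z) (A : Subgroup W)
    (hA : ∀ g x, x ∈ A ↔ ρ g x ∈ A) (hcomm : ∀ a ∈ A, ∀ b ∈ A, a * b = b * a) : A ≤ fix ρ ⊤ := by
  apply C.le_fix_top A hA
  rintro B x ⟨hxA, hxB⟩
  by_contra hxF
  rcases D.dich B with h | h
  · exact hxF (h hxB)
  · have hx1 : x ≠ 1 := fun h1 => hxF (by rw [h1]; exact Subgroup.one_mem _)
    have hxz : x ≠ z := fun h1 => hxF (by rw [h1]; exact D.z_mem)
    have hex : ∃ g : Γ, ρ g x ≠ x := by
      by_contra hcon
      push Not at hcon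
      exact hxF (fun d _ => hcon d)
    obtain ⟨g, hg⟩ := hex
    exact hg (q8_rigid h.card h.ne h.sq h.shape (C.pow g) C.odd (C.fix_inv g B.1) hxB hx1 hxz
      (hcomm x hxA _ ((hA g x).1 hxA)) x hxB)

/-- The commutator subgroup lies in the common fixed points. -/
theorem Data.commutator_le (C : Ctx p ρ) (D : Data p ρ z) : commutator W ≤ fix ρ ⊤ := by
  have hFc := Data.F_le_center C D
  have hbot : ∀ H : Subgroup W, H ≤ fix ρ ⊤ → ∀ K : Subgroup W, ⁅H, K⁆ = ⊥ := by
    intro H hH K
    rw [← le_bot_iff, Subgroup.commutator_le]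
    intro a ha b _
    have h1 := (Subgroup.mem_center_iff.mp (hFc (hH ha))) b
    rw [commutatorElement_def, ← h1]
    simp
  have step : ∀ n : ℕ, (⊤ : Subgroup W).lowerCentralSeries (n + 1) ≤ fix ρ ⊤ →
      (⊤ : Subgroup W).lowerCentralSeries 1 ≤ fix ρ ⊤ := by
    intro n
    induction n with
    | zero => exact id
    | succ n ih =>
      intro h
      apply ih
      set H₁ := (⊤ : Subgroup W).lowerCentralSeries n with hH₁
      set H₃ := (⊤ : Subgroup W).lowerCentralSeries (n + 1) with hH₃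
      have e1 : ⁅H₃, (⊤ : Subgroup W)⁆ ≤ fix ρ ⊤ := h
      have h1 : ⁅⁅(⊤ : Subgroup W), H₃⁆, H₁⁆ = ⊥ := by
        apply hbot
        rw [Subgroup.commutator_comm]
        exact e1
      have h2 : ⁅⁅H₃, H₁⁆, (⊤ : Subgroup W)⁆ = ⊥ := by
        apply hbot
        exact le_trans (Subgroup.commutator_mono le_rfl le_top) e1
      have h3 : ⁅⁅H₁, (⊤ : Subgroup W)⁆, H₃⁆ = ⊥ :=
        Subgroup.commutator_commutator_eq_bot_of_rotate h1 h2
      have h4 : ⁅H₃, H₃⁆ = ⊥ := h3
      apply D.le_of_comm C H₃ (char_inv H₃ C)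
      intro a ha b hb
      have h5 : ⁅a, b⁆ ∈ ⁅H₃, H₃⁆ := Subgroup.commutator_mem_commutator ha hb
      rw [h4, Subgroup.mem_bot] at h5
      exact commutatorElement_eq_one_iff_mul_comm.mp h5
  haveI : Group.IsNilpotent W := C.hW.isNilpotent
  obtain ⟨n, hn⟩ := Subgroup.nilpotent_iff_lowerCentralSeries.mp (inferInstance : Group.IsNilpotent W)
  apply step n
  have := Subgroup.lowerCentralSeries_antitone (⊤ : Subgroup W) (Nat.le_succ n)
  rw [hn] at this
  exact le_trans this bot_le

theorem Data.center_le (C : Ctx p ρ) (D : Data p ρ z) : Subgroup.center W ≤ fix ρ ⊤ := by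
  apply D.le_of_comm C _ (char_inv _ C)
  intro a ha b _
  exact (Subgroup.mem_center_iff.mp ha b).symm

theorem Data.center_eq (C : Ctx p ρ) (D : Data p ρ z) : Subgroup.center W = fix ρ ⊤ :=
  le_antisymm (D.center_le C) (D.F_le_center C)

theorem Data.z_mem_commutator (C : Ctx p ρ) (D : Data p ρ z) : z ∈ commutator W := by
  have h1 : ¬ ∀ a b : W, a * b = b * a := by
    intro h
    have h2 : (⊤ : Subgroup W) ≤ fix ρ ⊤ :=
      D.le_of_comm C ⊤ (by simp) (fun a _ b _ => h a b)
    exact C.fix_top_ne_top (top_le_iff.mp h2)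
  push Not at h1
  obtain ⟨a, b, hab⟩ := h1
  have h2 : ⁅a, b⁆ ∈ commutator W := by
    rw [commutator_def]
    exact Subgroup.commutator_mem_commutator trivial trivial
  rcases (D.memF _).1 (D.commutator_le C h2) with h3 | h3
  · exact absurd (commutatorElement_eq_one_iff_mul_comm.mp h3) hab
  · rw [← h3]; exact h2

theorem Data.commutator_eq (C : Ctx p ρ) (D : Data p ρ z) : commutator W = fix ρ ⊤ := by
  apply le_antisymm (D.commutator_le C)
  intro x hx
  rcases (D.memF x).1 hx with rfl | rfl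
  · exact Subgroup.one_mem _
  · exact D.z_mem_commutator C

theorem Data.sq_mem_all (C : Ctx p ρ) (D : Data p ρ z) (x : W) : x ^ 2 ∈ fix ρ ⊤ := by
  have hcm := D.commutator_le C
  let A : Subgroup W :=
    { carrier := {x | x ^ 2 ∈ fix ρ ⊤}
      one_mem' := by simp
      mul_mem' := by
        intro a b ha hb
        show (a * b) ^ 2 ∈ fix ρ ⊤
        have h1 : (a * b) ^ 2 = a ^ 2 * ⁅a⁻¹, b⁆ * b ^ 2 := by
          rw [commutatorElement_def, pow_two, pow_two, pow_two]; group
        rw [h1]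
        refine Subgroup.mul_mem _ (Subgroup.mul_mem _ ha (hcm ?_)) hb
        rw [commutator_def]
        exact Subgroup.commutator_mem_commutator trivial trivial
      inv_mem' := by
        intro a ha
        show a⁻¹ ^ 2 ∈ fix ρ ⊤
        rw [inv_pow]
        exact Subgroup.inv_mem _ ha }
  have hA : A = ⊤ := by
    apply C.eq_top
    · intro g
      apply inv_iff_of_forward (C.pow g) hp.out.pos
      intro a ha
      show (ρ g a) ^ 2 ∈ fix ρ ⊤
      rw [← map_pow]
      exact (C.fix_inv g ⊤ _).1 ha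
    · intro B a ha
      exact D.sq_mem B ha
    · intro a ha
      exact Subgroup.pow_mem _ ha 2
  have : x ∈ A := by rw [hA]; trivial
  exact this

theorem Data.frattini_eq (C : Ctx p ρ) (D : Data p ρ z) : frattini W = fix ρ ⊤ := by
  haveI hn : (fix ρ (⊤ : Subgroup Γ)).Normal := by
    rw [← D.center_eq C]; infer_instance
  apply le_antisymm
  · exact Cfsg.Agent.Lib.PGroup.ActionFrattini.frattini_le C.hW _ (D.commutator_le C)
      (D.sq_mem_all C)
  · rw [← D.commutator_eq C]
    exact Cfsg.Agent.Lib.PGroup.FrattiniBasis.commutator_le_frattini C.hW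

/-- `W` is extraspecial. -/
theorem Data.extraspecial (C : Ctx p ρ) (D : Data p ρ z) : Cfsg.IsExtraspecial 2 W := by
  refine ⟨⟨C.hW, ?_, ?_⟩, ?_⟩
  · rw [D.frattini_eq C, D.center_eq C]
  · rw [D.commutator_eq C, D.center_eq C]
  · rw [D.center_eq C]
    exact card_two_of D.ne D.memF

/-- The order of `W`, and two lines with quaternion fixed points. -/
theorem Data.card_cases (C : Ctx p ρ) (D : Data p ρ z) (hp3 : p = 3) {B₀ : Lines Γ p}
    (hB₀ : Q8Like (fix ρ B₀.1) z) :
    (Nat.card W = 2 ^ 5 ∨ Nat.card W = 2 ^ 7 ∨ Nat.card W = 2 ^ 9) ∧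
      ∃ B₁ B₂ : Lines Γ p, B₁ ≠ B₂ ∧ Q8Like (fix ρ B₁.1) z ∧ Q8Like (fix ρ B₂.1) z := by
  classical
  subst hp3
  have hF2 : Nat.card (fix ρ (⊤ : Subgroup Γ)) = 2 := card_two_of D.ne D.memF
  have hcardB : ∀ B : Lines Γ 3, Nat.card (fix ρ B.1) =
      if Q8Like (fix ρ B.1) z then 8 else 2 := by
    intro B
    split_ifs with h
    · exact h.card
    · rcases D.dich B with h1 | h1
      · rw [le_antisymm h1 (fix_mono ρ le_top), hF2]
      · exact absurd h1 h
  have h1 := C.card_W
  simp_rw [hcardB] at h1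
  rw [Finset.prod_ite, Finset.prod_const, Finset.prod_const, hF2] at h1
  set S := Finset.univ.filter (fun B : Lines Γ 3 => Q8Like (fix ρ B.1) z) with hS
  set S' := Finset.univ.filter (fun B : Lines Γ 3 => ¬ Q8Like (fix ρ B.1) z) with hS'
  have h2 : S.card + S'.card = 4 := by
    have := Finset.card_filter_add_card_filter_not (s := (Finset.univ : Finset (Lines Γ 3)))
      (fun B : Lines Γ 3 => Q8Like (fix ρ B.1) z)
    rw [Finset.card_univ, card_lines C.hcard C.hexp] at this
    exact this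
  have h3 : 8 < Nat.card W := by
    by_contra hcon
    push Not at hcon
    have : fix ρ B₀.1 = ⊤ :=
      Subgroup.eq_of_le_of_card_ge le_top (by rw [Subgroup.card_top, hB₀.card]; exact hcon)
    exact C.fix_line_ne_top B₀ this
  have hS4 : S.card ≤ 4 := by omega
  have hk : 2 ≤ S.card := by
    by_contra hcon
    have hcon' : S.card = 0 ∨ S.card = 1 := by omega
    rcases hcon' with h4 | h4
    · have h5 : S'.card = 4 := by omega
      rw [h4, h5] at h1
      norm_num at h1
      omega
    · have h5 : S'.card = 3 := by omega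
      rw [h4, h5] at h1
      norm_num at h1
      omega
  refine ⟨?_, ?_⟩
  · have hcases : S.card = 2 ∨ S.card = 3 ∨ S.card = 4 := by omega
    rcases hcases with h4 | h4 | h4
    · have h5 : S'.card = 2 := by omega
      rw [h4, h5] at h1
      norm_num at h1
      left; omega
    · have h5 : S'.card = 1 := by omega
      rw [h4, h5] at h1
      norm_num at h1
      right; left; omega
    · have h5 : S'.card = 0 := by omega
      rw [h4, h5] at h1
      norm_num at h1
      right; right; omega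
  · obtain ⟨B₁, hB₁, B₂, hB₂, hne⟩ := Finset.one_lt_card.mp (by omega : 1 < S.card)
    exact ⟨B₁, B₂, hne, (Finset.mem_filter.mp hB₁).2, (Finset.mem_filter.mp hB₂).2⟩

/-- The two lines have common fixed points only inside `F`. -/
theorem Ctx.inf_le (C : Ctx p ρ) {B₁ B₂ : Lines Γ p} (hne : B₁ ≠ B₂) {x : W}
    (h₁ : x ∈ fix ρ B₁.1) (h₂ : x ∈ fix ρ B₂.1) : x ∈ fix ρ ⊤ := by
  have hsup : B₁.1 ⊔ B₂.1 = ⊤ :=
    sup_eq_top_of_ne C.hcard B₁.2 B₂.2 (fun h => hne (Subtype.ext h))
  let S : Subgroup Γ :=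
    { carrier := {g | ρ g x = x}
      one_mem' := by simp
      mul_mem' := by
        intro a b ha hb
        show ρ (a * b) x = x
        rw [map_mul, MulAut.mul_apply, hb, ha]
      inv_mem' := by
        intro a ha
        show ρ a⁻¹ x = x
        have h3 : ρ a⁻¹ (ρ a x) = x := by
          rw [← MulAut.mul_apply, ← map_mul]
          simp
        rw [ha] at h3
        exact h3 }
  have hS : B₁.1 ⊔ B₂.1 ≤ S := sup_le h₁ h₂
  rw [hsup] at hS
  intro d _
  exact hS trivial

end

end Cfsg.Agent.Lib.ExtraAut.Struct
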