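import Mathlib
import Cfsg.Prelude.Def_Transfer
import Cfsg.Agent.Lib.ExtraAut.Struct

/-!
The order of `E` and the conclusion.
-/

set_option autoImplicit false
set_option linter.unusedSectionVars false
set_option linter.style.haveILetI false

namespace Cfsg.Agent.Lib.ExtraAut.Final

open Cfsg.Agent.Lib.PGroup.CyclicMax2 Cfsg.Agent.Lib.PGroup.CyclicMax
open Cfsg.Agent.Lib.Coprime.BrauerWielandt Cfsg.Agent.Lib.ExtraAut.Basic
open Cfsg.Agent.Lib.ExtraAut.Setup Cfsg.Agent.Lib.ExtraAut.Struct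
open scoped commutatorElement

universe u v

variable {W : Type u} [Group W] [Finite W] {Γ : Type v} [Group Γ]
  {p : ℕ} [hp : Fact p.Prime] {ρ : Γ →* MulAut W} {z : W}

section
variable [Fintype Γ] [Fintype (Lines Γ p)]

/-- In a quaternion fixed point subgroup there is an element outside `F` commuting with `x`. -/
theorem exists_commuting (C : Ctx p ρ) (D : Data p ρ z) {Q : Subgroup W} (hQ : Q8Like Q z) (x : W) :
    ∃ y ∈ Q, y ∉ fix ρ ⊤ ∧ x * y = y * x := by
  classical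
  have hF2 : Nat.card (fix ρ (⊤ : Subgroup Γ)) = 2 := card_two_of D.ne D.memF
  have hzc := D.central C
  obtain ⟨y, hy, hyF⟩ : ∃ y ∈ Q, y ∉ fix ρ ⊤ := by
    by_contra hcon
    push Not at hcon
    have := Subgroup.card_le_of_le (show Q ≤ fix ρ ⊤ from hcon)
    rw [hQ.card, hF2] at this
    omega
  have hy1 : y ≠ 1 := fun h => hyF (by rw [h]; exact Subgroup.one_mem _)
  have hyz : y ≠ z := fun h => hyF (by rw [h]; exact D.z_mem)
  have hy2 := hQ.shape y hy hy1 hyz
  have hy4 : y ^ 4 = 1 := by rw [show 4 = 2 * 2 by norm_num, pow_mul, hy2, hQ.sq]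
  obtain ⟨y', hy', hy'U⟩ : ∃ y' ∈ Q, y' ∉ Subgroup.zpowers y := by
    by_contra hcon
    push Not at hcon
    have := Subgroup.card_le_of_le (show Q ≤ Subgroup.zpowers y from hcon)
    rw [hQ.card, Nat.card_zpowers] at this
    have h2 := Nat.le_of_dvd (by norm_num) (orderOf_dvd_of_pow_eq_one hy4)
    omega
  have hFU : ∀ w ∈ fix ρ ⊤, w ∈ Subgroup.zpowers y := by
    intro w hw
    rcases (D.memF w).1 hw with rfl | rfl
    · exact Subgroup.one_mem _
    · rw [← hy2]; exact Subgroup.pow_mem _ (Subgroup.mem_zpowers y) 2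
  have hc : ∀ a : W, x * a = a * x ∨ x * a = z * (a * x) := by
    intro a
    have h1 : ⁅x, a⁆ ∈ commutator W := by
      rw [commutator_def]
      exact Subgroup.commutator_mem_commutator trivial trivial
    rcases (D.memF _).1 (D.commutator_le C h1) with h2 | h2
    · left; exact commutatorElement_eq_one_iff_mul_comm.mp h2
    · right
      rw [← h2, commutatorElement_def]
      group
  by_cases h1 : x * y = y * x
  · exact ⟨y, hy, hyF, h1⟩
  by_cases h2 : x * y' = y' * x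
  · exact ⟨y', hy', fun h => hy'U (hFU _ h), h2⟩
  have e1 := (hc y).resolve_left h1
  have e2 := (hc y').resolve_left h2
  refine ⟨y * y', Q.mul_mem hy hy', ?_, ?_⟩
  · intro h
    apply hy'U
    have h3 := Subgroup.mul_mem _ (Subgroup.inv_mem _ (Subgroup.mem_zpowers y)) (hFU _ h)
    simpa using h3
  · have hzc' := Subgroup.mem_center_iff.mp hzc
    have hzz : z * z = 1 := by rw [← pow_two, hQ.sq]
    calc x * (y * y') = (x * y) * y' := by group
      _ = z * (y * x) * y' := by rw [e1]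
      _ = z * y * (x * y') := by group
      _ = z * y * (z * (y' * x)) := by rw [e2]
      _ = (y * z) * (z * (y' * x)) := by rw [hzc' y]
      _ = y * (z * z) * (y' * x) := by group
      _ = y * y' * x := by rw [hzz]; group

/-- An automorphism commuting with the action and with unique fixed involutions cannot fix elements
of two quaternion fixed point subgroups outside `F`. -/
theorem no_common_fix (C : Ctx p ρ) (D : Data p ρ z) {e : MulAut W} {m : ℕ} (he : e ^ m = 1)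
    (hm : Odd m) (hc : ∀ g : Γ, ρ g * e = e * ρ g)
    (he1 : ∀ x y : W, orderOf x = 2 → orderOf y = 2 → e x = x → e y = y → x = y)
    {B₁ B₂ : Lines Γ p} (hne : B₁ ≠ B₂) (h₁ : Q8Like (fix ρ B₁.1) z) (h₂ : Q8Like (fix ρ B₂.1) z)
    {x₁ x₂ : W} (hx₁ : x₁ ∈ fix ρ B₁.1) (hx₁F : x₁ ∉ fix ρ ⊤) (hx₂ : x₂ ∈ fix ρ B₂.1)
    (hx₂F : x₂ ∉ fix ρ ⊤) (hf₁ : e x₁ = x₁) (hf₂ : e x₂ = x₂) : False := by
  have hm0 : 0 < m := hm.pos
  have hne1 : ∀ {x : W}, x ∉ fix ρ ⊤ → x ≠ 1 := fun hx h => hx (by rw [h]; exact Subgroup.one_mem _)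
  have hnez : ∀ {x : W}, x ∉ fix ρ ⊤ → x ≠ z := fun hx h => hx (by rw [h]; exact D.z_mem)
  have triv : ∀ {B : Lines Γ p} (_ : Q8Like (fix ρ B.1) z) {x : W}, x ∈ fix ρ B.1 → x ∉ fix ρ ⊤ →
      e x = x → ∀ y ∈ fix ρ B.1, e y = y := by
    intro B hB x hx hxF hfx
    refine q8_rigid hB.card hB.ne hB.sq hB.shape he hm (fix_inv_of_comm he hm0 hc B.1) hx (hne1 hxF)
      (hnez hxF) ?_
    rw [hfx]
  have t₁ := triv h₁ hx₁ hx₁F hf₁
  have t₂ := triv h₂ hx₂ hx₂F hf₂
  obtain ⟨y, hy, hyF, hcomm⟩ := exists_commuting C D h₂ x₁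
  have hxsq := h₁.shape x₁ hx₁ (hne1 hx₁F) (hnez hx₁F)
  have hysq := h₂.shape y hy (hne1 hyF) (hnez hyF)
  have hzz : z * z = 1 := by rw [← pow_two, D.sq]
  have ht2 : (x₁ * y) ^ 2 = 1 := by
    rw [(show Commute x₁ y from hcomm).mul_pow, hxsq, hysq, hzz]
  have ht1 : x₁ * y ≠ 1 := by
    intro h
    have h3 : x₁ = y⁻¹ := eq_inv_of_mul_eq_one_left h
    apply hx₁F
    apply Ctx.inf_le C hne hx₁
    rw [h3]
    exact Subgroup.inv_mem _ hy
  have htz : x₁ * y ≠ z := by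
    intro h
    have h3 : x₁ = z * y⁻¹ := eq_mul_inv_of_mul_eq h
    apply hx₁F
    apply Ctx.inf_le C hne hx₁
    rw [h3]
    exact Subgroup.mul_mem _ h₂.mem (Subgroup.inv_mem _ hy)
  apply htz
  apply he1 _ _ (orderOf_two_of ht1 ht2) (orderOf_two_of D.ne D.sq)
  · rw [map_mul, hf₁, t₂ y hy]
  · exact t₁ z h₁.mem

end

/-- The index of a stabilizer in a group of 3-power order of a point in an invariant subgroup of
order 8. -/
theorem index_stabilizer_le {E : Subgroup (MulAut W)} (hE : IsPGroup 3 E) {Q : Subgroup W}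
    (hQ : Nat.card Q = 8) (hinv : ∀ e ∈ E, ∀ x ∈ Q, e x ∈ Q) {x : W} (hx : x ∈ Q) :
    (MulAction.stabilizer E x).index ≤ 3 := by
  classical
  haveI : Fact (Nat.Prime 3) := ⟨Nat.prime_three⟩
  obtain ⟨a, ha⟩ := IsPGroup.iff_card.1 hE
  have h1 : (MulAction.stabilizer E x).index ∣ 3 ^ a := by
    rw [← ha]
    exact Subgroup.index_dvd_card _
  obtain ⟨b, -, hb⟩ := (Nat.dvd_prime_pow Nat.prime_three).mp h1
  have h2 : (MulAction.orbit E x) ⊆ (Q : Set W) := by
    rintro _ ⟨e, rfl⟩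
    exact hinv e.1 e.2 x hx
  have h3 : (MulAction.orbit E x).ncard ≤ 8 := by
    have := Set.ncard_le_ncard h2 (Set.toFinite _)
    rwa [show (Q : Set W).ncard = Nat.card Q from rfl, hQ] at this
  rw [MulAction.index_stabilizer] at hb ⊢
  rw [hb] at h3 ⊢
  have hb1 : b ≤ 1 := by
    by_contra hcon
    push Not at hcon
    have : 3 ^ 2 ≤ 3 ^ b := Nat.pow_le_pow_right (by norm_num) hcon
    omega
  calc 3 ^ b ≤ 3 ^ 1 := Nat.pow_le_pow_right (by norm_num) hb1
    _ = 3 := by norm_num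

/-- The main theorem. -/
theorem main {W : Type u} [Group W] [Finite W] (hW : IsPGroup 2 W) {p : ℕ} [hp : Fact p.Prime]
    (hp2 : p ≠ 2) (E : Subgroup (MulAut W)) (hE : IsPGroup p ↥E) (hab : IsMulCommutative ↥E)
    (hnc : ¬ IsCyclic ↥E)
    (hfix : ∀ e ∈ E, e ≠ 1 → ∀ x y : W, orderOf x = 2 → orderOf y = 2 → e x = x → e y = y → x = y) :
    Nat.card ↥E = 9 ∧ Cfsg.IsExtraspecial 2 W ∧
      (Nat.card W = 2 ^ 5 ∨ Nat.card W = 2 ^ 7 ∨ Nat.card W = 2 ^ 9) ∧
      {x : W | ∀ e ∈ E, e x = x} = (Subgroup.center W : Set W) := by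
  classical
  haveI : Finite ↥E := inferInstance
  have hnu : ¬ UniqueP p ↥E := by
    intro hu
    rcases cyclic_or_quaternion hE hu with h | ⟨h, _⟩
    · exact hnc h
    · exact hp2 h
  obtain ⟨Γ₁, hΓcard, hΓea⟩ := exists_order_sq_of_not_uniqueP hE hnu
  rw [Cfsg.Agent.Lib.PGroup.Basic.isElementaryAbelian_iff] at hΓea
  let ρ : ↥Γ₁ →* MulAut W := E.subtype.comp Γ₁.subtype
  have hρ : ∀ g : ↥Γ₁, ρ g ∈ E := fun g => (g.1).2
  have hinj : Function.Injective ρ :=
    E.subtype_injective.comp Γ₁.subtype_injective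
  have C : Ctx p ρ :=
    { hW := hW
      hp2 := hp2
      hcard := hΓcard
      hexp := fun g => Subtype.ext (hΓea.2 g.1 g.2)
      hcomm := fun a b => Subtype.ext (hΓea.1 a.1 a.2 b.1 b.2)
      hinj := hinj
      hfix := fun g hg x y hx hy hgx hgy => hfix (ρ g) (hρ g)
        (fun h => hg (hinj (by rw [h, map_one]))) x y hx hy hgx hgy }
  letI : Fintype ↥Γ₁ := Fintype.ofFinite _
  letI : Fintype (Lines ↥Γ₁ p) := Fintype.ofFinite _
  obtain ⟨hp3, z, D, B₀, hB₀, -⟩ := Ctx.exists_data C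
  subst hp3
  obtain ⟨horder, B₁, B₂, hne, h₁, h₂⟩ := D.card_cases C rfl hB₀
  have hcomm : ∀ (e : MulAut W), e ∈ E → ∀ g : ↥Γ₁, ρ g * e = e * ρ g := by
    intro e he g
    have := hab.is_comm.comm (g.1) ⟨e, he⟩
    exact congrArg Subtype.val this
  have hodd : ∀ (e : MulAut W), e ∈ E → ∃ m : ℕ, e ^ m = 1 ∧ Odd m := by
    intro e he
    obtain ⟨k, hk⟩ := hE ⟨e, he⟩
    refine ⟨3 ^ k, congrArg Subtype.val hk, Odd.pow (by decide)⟩
  have hinvE : ∀ (B : Subgroup ↥Γ₁), ∀ e ∈ E, ∀ x ∈ fix ρ B, e x ∈ fix ρ B := by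
    intro B e he x hx
    obtain ⟨m, hm, hmo⟩ := hodd e he
    exact (fix_inv_of_comm hm hmo.pos (hcomm e he) B x).1 hx
  have hFelt : ∀ x, x ∈ fix ρ (⊤ : Subgroup ↥Γ₁) ↔ x ∈ Subgroup.center W := by
    intro x
    rw [D.center_eq C]
  refine ⟨?_, D.extraspecial C, horder, ?_⟩
  · -- the order of `E`
    apply le_antisymm
    · have hF2 : Nat.card (fix ρ (⊤ : Subgroup ↥Γ₁)) = 2 := card_two_of D.ne D.memF
      obtain ⟨x₁, hx₁, hx₁F⟩ : ∃ x ∈ fix ρ B₁.1, x ∉ fix ρ (⊤ : Subgroup ↥Γ₁) := by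
        by_contra hcon
        push Not at hcon
        have := Subgroup.card_le_of_le (show fix ρ B₁.1 ≤ fix ρ ⊤ from hcon)
        rw [h₁.card, hF2] at this
        omega
      obtain ⟨x₂, hx₂, hx₂F⟩ : ∃ x ∈ fix ρ B₂.1, x ∉ fix ρ (⊤ : Subgroup ↥Γ₁) := by
        by_contra hcon
        push Not at hcon
        have := Subgroup.card_le_of_le (show fix ρ B₂.1 ≤ fix ρ ⊤ from hcon)
        rw [h₂.card, hF2] at this
        omega
      have hS₁ := index_stabilizer_le hE h₁.card (hinvE B₁.1) hx₁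
      have hS₂ := index_stabilizer_le hE h₂.card (hinvE B₂.1) hx₂
      have hbot : MulAction.stabilizer E x₁ ⊓ MulAction.stabilizer E x₂ = ⊥ := by
        rw [eq_bot_iff]
        rintro ⟨e, he⟩ ⟨h1, h2⟩
        rw [Subgroup.mem_bot]
        by_contra hne1
        have hne1' : e ≠ 1 := fun h => hne1 (Subtype.ext h)
        obtain ⟨m, hm, hmo⟩ := hodd e he
        exact no_common_fix C D hm hmo (hcomm e he) (hfix e he hne1') hne h₁ h₂ hx₁ hx₁F hx₂ hx₂F h1 h2
      have h3 : (MulAction.stabilizer E x₁ ⊓ MulAction.stabilizer E x₂).index ≤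
          (MulAction.stabilizer E x₁).index * (MulAction.stabilizer E x₂).index :=
        Subgroup.index_inf_le
      rw [hbot, Subgroup.index_bot] at h3
      calc Nat.card E ≤ _ := h3
        _ ≤ 3 * 3 := Nat.mul_le_mul hS₁ hS₂
        _ = 9 := by norm_num
    · have := Subgroup.card_le_card_group Γ₁
      rw [hΓcard] at this
      simpa using this
  · ext x
    show (∀ e ∈ E, e x = x) ↔ x ∈ Subgroup.center W
    constructor
    · intro h
      rw [← hFelt]
      intro d _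
      exact h (ρ d) (hρ d)
    · intro h e he
      rcases (D.memF x).1 ((hFelt x).2 h) with rfl | rfl
      · exact map_one e
      · have h3 := hinvE ⊤ e he x D.z_mem
        rcases (D.memF _).1 h3 with h4 | h4
        · exact absurd ((map_eq_one_iff e e.injective).mp h4) D.ne
        · exact h4

end Cfsg.Agent.Lib.ExtraAut.Final
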